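import Groth.Agent.Weitz.Kernel
import Mathlib.Algebra.Module.PID
import Mathlib.Algebra.Polynomial.Module.AEval
import Mathlib.RingTheory.AdjoinRoot
import Mathlib.LinearAlgebra.Finsupp.VectorSpace

/-!
# Jordan chains of a nilpotent endomorphism and the attached triple
-/

set_option autoImplicit false

universe u v

open Polynomial DirectSum

noncomputable section

namespace Groth.Agent.Weitz

variable {k : Type u} [Field k]

theorem exists_jordan_chains {V : Type u} [AddCommGroup V] [Module k V] [Module.Finite k V] (φ : V →ₗ[k] V)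
    (hφ : IsNilpotent φ) :
    ∃ (d : ℕ) (c : Fin d → ℕ) (b : Module.Basis (Σ i, Fin (c i)) k V),
      ∀ p, φ (b p) = if h : (p.2 : ℕ) + 1 < c p.1 then b ⟨p.1, ⟨p.2 + 1, h⟩⟩ else 0 := by
  classical
  obtain ⟨N, hN⟩ := hφ
  have htor : Module.IsTorsion' (Module.AEval' φ) (Submonoid.powers (X : k[X])) :=
    (Submodule.isTorsion'_powers_iff (X : k[X])).2 fun x => ⟨N, by
      obtain ⟨y, rfl⟩ := (Module.AEval'.of φ).surjective x
      rw [Module.AEval'.X_pow_smul_of, hN, zero_smul, map_zero]⟩
  obtain ⟨d, c, ⟨e⟩⟩ := Module.torsion_by_prime_power_decomposition (M := Module.AEval' φ)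
    (p := (X : k[X])) irreducible_X htor
  let bi : ∀ i, Module.Basis (Fin (c i)) k (k[X] ⧸ (k[X] ∙ (X : k[X]) ^ c i)) := fun i =>
    (AdjoinRoot.powerBasis' (monic_X_pow (R := k) (c i))).basis.reindex (finCongr (natDegree_X_pow (c i)))
  have hbi' : ∀ i (l : Fin (c i)),
      (AdjoinRoot.powerBasis' (monic_X_pow (R := k) (c i))).basis.reindex (finCongr (natDegree_X_pow (c i))) l =
        AdjoinRoot.mk ((X : k[X]) ^ c i) ((X : k[X]) ^ (l : ℕ)) := fun i l => by
    rw [Module.Basis.reindex_apply, PowerBasis.basis_eq_pow, map_pow, AdjoinRoot.mk_X]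
    rfl
  have hbi : ∀ i l, bi i l = Submodule.Quotient.mk (p := k[X] ∙ (X : k[X]) ^ c i) ((X : k[X]) ^ (l : ℕ)) := hbi'
  let E : V ≃ₗ[k] ⨁ i : Fin d, k[X] ⧸ (k[X] ∙ (X : k[X]) ^ c i) :=
    (Module.AEval'.of φ).trans (e.restrictScalars k)
  refine ⟨d, c, (DFinsupp.basis bi).map E.symm, fun p => E.injective ?_⟩
  have hb : ∀ q, E ((DFinsupp.basis bi).map E.symm q) =
      DirectSum.lof k[X] (Fin d) (fun i => k[X] ⧸ (k[X] ∙ (X : k[X]) ^ c i)) q.1
        (Submodule.Quotient.mk ((X : k[X]) ^ (q.2 : ℕ))) := fun q => by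
    rw [Module.Basis.map_apply, LinearEquiv.apply_symm_apply, ← hbi]
    simp [DFinsupp.basis, DirectSum.lof, DFinsupp.lsingle]
  have hE : ∀ y, E (φ y) = (X : k[X]) • E y := fun y => by
    show e (Module.AEval'.of φ (φ y)) = X • e (Module.AEval'.of φ y)
    rw [← map_smul, Module.AEval'.X_smul_of]
  rw [hE, hb, ← map_smul, ← Submodule.Quotient.mk_smul, smul_eq_mul, ← pow_succ']
  split_ifs with h
  · rw [hb]
  · rw [map_zero, (Submodule.Quotient.mk_eq_zero _).2, map_zero]
    refine Submodule.mem_span_singleton.2 ⟨1, ?_⟩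
    rw [one_smul]
    exact congrArg ((X : k[X]) ^ ·) (show c p.1 = (p.2 : ℕ) + 1 by omega)

open MvPolynomial in
/-- The kernel of the derivation of a nilpotent matrix is finitely generated. -/
theorem exists_fg_kernel [CharZero k] (n : ℕ) (M : Matrix (Fin n) (Fin n) k) (hM : IsNilpotent M) :
    ∃ S : Subalgebra k (MvPolynomial (Fin n) k), S.FG ∧
      ∀ f : MvPolynomial (Fin n) k, f ∈ S ↔
        MvPolynomial.mkDerivation k (fun j : Fin n => ∑ i : Fin n, M i j • (MvPolynomial.X i : MvPolynomial (Fin n) k)) f = 0 := by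
  classical
  have hnil : IsNilpotent (Matrix.toLin' M) := hM.map (Matrix.toLinAlgEquiv' (R := k) (n := Fin n))
  obtain ⟨d, c, b, hb⟩ := exists_jordan_chains (V := Fin n → k) (Matrix.toLin' M) hnil
  let up : (Σ i, Fin (c i)) → MvPolynomial (Σ i, Fin (c i)) k := fun p =>
    if h : (p.2 : ℕ) + 1 < c p.1 then MvPolynomial.X ⟨p.1, ⟨p.2 + 1, h⟩⟩ else 0
  let down : (Σ i, Fin (c i)) → MvPolynomial (Σ i, Fin (c i)) k := fun p =>
    if h : 1 ≤ (p.2 : ℕ) then (((p.2 : ℕ) * (c p.1 - p.2) : ℕ) : k) • MvPolynomial.X ⟨p.1, ⟨p.2 - 1, by omega⟩⟩ else 0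
  let T : Sl2Data k (Σ i, Fin (c i)) :=
    { wt := fun p => 2 * (p.2 : ℤ) - (c p.1 : ℤ) + 1
      e := mkDerivation k up
      f := mkDerivation k down
      e_wt := fun p => by
        rw [MvPolynomial.mkDerivation_X]
        simp only [up]
        split_ifs with h
        · convert isWeightedHomogeneous_X k (fun p : Σ i, Fin (c i) => 2 * (p.2 : ℤ) - (c p.1 : ℤ) + 1) ⟨p.1, ⟨p.2 + 1, h⟩⟩ using 1
          all_goals first | rfl | (push_cast; omega)
        · exact isWeightedHomogeneous_zero k _ _
      f_wt := fun p => by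
        rw [mkDerivation_X]
        simp only [down]
        split_ifs with h
        · rw [MvPolynomial.smul_eq_C_mul]
          refine IsWeightedHomogeneous.C_mul ?_ _
          convert isWeightedHomogeneous_X k (fun p : Σ i, Fin (c i) => 2 * (p.2 : ℤ) - (c p.1 : ℤ) + 1) ⟨p.1, ⟨p.2 - 1, by omega⟩⟩ using 1
          all_goals first | rfl | (push_cast [h]; omega)
        · exact isWeightedHomogeneous_zero k _ _
      e_deg := fun p => by
        rw [MvPolynomial.mkDerivation_X]
        simp only [up]
        split_ifs with h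
        · simpa using isWeightedHomogeneous_X k (fun _ : Σ i, Fin (c i) => (1 : ℤ)) ⟨p.1, ⟨p.2 + 1, h⟩⟩
        · exact isWeightedHomogeneous_zero k _ _
      f_deg := fun p => by
        rw [mkDerivation_X]
        simp only [down]
        split_ifs with h
        · rw [MvPolynomial.smul_eq_C_mul]
          refine IsWeightedHomogeneous.C_mul ?_ _
          simpa using isWeightedHomogeneous_X k (fun _ : Σ i, Fin (c i) => (1 : ℤ)) ⟨p.1, ⟨p.2 - 1, by omega⟩⟩
        · exact isWeightedHomogeneous_zero k _ _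
      comm := by
        rintro ⟨i, l, hl⟩
        have h1 : mkDerivation k up (mkDerivation k down (MvPolynomial.X ⟨i, ⟨l, hl⟩⟩)) =
            ((l * (c i - l) : ℕ) : k) • MvPolynomial.X ⟨i, ⟨l, hl⟩⟩ := by
          rw [mkDerivation_X]
          simp only [down]
          split_ifs with h
          · rw [Derivation.map_smul, mkDerivation_X]
            simp only [up]
            rw [dif_pos (show l - 1 + 1 < c i by omega)]
            congr 4
            omega
          · have hl0 : l = 0 := by omega
            subst hl0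
            simp
        have h2 : mkDerivation k down (mkDerivation k up (MvPolynomial.X ⟨i, ⟨l, hl⟩⟩)) =
            (((l + 1) * (c i - (l + 1)) : ℕ) : k) • MvPolynomial.X ⟨i, ⟨l, hl⟩⟩ := by
          rw [mkDerivation_X]
          simp only [up]
          split_ifs with h
          · rw [mkDerivation_X]
            simp only [down]
            rw [dif_pos (show 1 ≤ l + 1 by omega)]
            simp
          · rw [map_zero, show c i - (l + 1) = 0 by omega, mul_zero, Nat.cast_zero, zero_smul]
        rw [h1, h2, ← sub_smul]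
        congr 1
        simp only [Nat.cast_mul, Nat.cast_sub hl.le, Nat.cast_sub (Nat.succ_le_of_lt hl)]
        push_cast
        ring }
  let lin : (Fin n → k) →ₗ[k] MvPolynomial (Fin n) k :=
    ∑ m, (LinearMap.proj m).smulRight (MvPolynomial.X m)
  let δ : Derivation k (MvPolynomial (Fin n) k) (MvPolynomial (Fin n) k) :=
    mkDerivation k fun j : Fin n => ∑ i : Fin n, M i j • MvPolynomial.X i
  have hδ : ∀ v, δ (lin v) = lin (Matrix.toLin' M v) := fun v => by
    simp only [lin, LinearMap.sum_apply, LinearMap.smulRight_apply, LinearMap.proj_apply, map_sum,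
      Derivation.map_smul, δ, mkDerivation_X, Finset.smul_sum, smul_smul, Matrix.toLin'_apply,
      Matrix.mulVec, dotProduct, Finset.sum_smul]
    rw [Finset.sum_comm]
    simp only [mul_comm]
  let fwd : MvPolynomial (Σ i, Fin (c i)) k →ₐ[k] MvPolynomial (Fin n) k := aeval fun p => lin (b p)
  let bwd : MvPolynomial (Fin n) k →ₐ[k] MvPolynomial (Σ i, Fin (c i)) k :=
    aeval fun m => ∑ p, b.repr (Pi.single m 1) p • MvPolynomial.X p
  have hlin : ∀ m, lin (Pi.single m 1) = MvPolynomial.X m := fun m => by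
    simp [lin, LinearMap.sum_apply, Pi.single_apply]
  have hfb : ∀ z, fwd (bwd z) = z := fun z => by
    suffices h : fwd.comp bwd = AlgHom.id k _ from AlgHom.congr_fun h z
    refine MvPolynomial.algHom_ext fun m => ?_
    simp only [AlgHom.comp_apply, bwd, fwd, MvPolynomial.aeval_X, map_sum, map_smul, AlgHom.id_apply]
    simp only [← map_smul, ← map_sum, b.sum_repr, hlin]
  have hbf : ∀ z, bwd (fwd z) = z := fun z => by
    suffices h : bwd.comp fwd = AlgHom.id k _ from AlgHom.congr_fun h z
    refine MvPolynomial.algHom_ext fun p => ?_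
    let L : (Fin n → k) →ₗ[k] MvPolynomial (Σ i, Fin (c i)) k := bwd.toLinearMap ∘ₗ lin
    have hL : L = ∑ q, (b.coord q).smulRight (MvPolynomial.X q) := by
      refine LinearMap.pi_ext' fun m => LinearMap.ext_ring ?_
      simp [L, hlin, bwd, LinearMap.sum_apply]
    simp only [AlgHom.comp_apply, fwd, MvPolynomial.aeval_X, AlgHom.id_apply]
    show L (b p) = _
    rw [hL]
    simp [LinearMap.sum_apply, Module.Basis.coord_apply, Finsupp.single_apply]
  have hcomm : ∀ z, δ (fwd z) = fwd (T.e z) := fun z => by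
    induction z using MvPolynomial.induction_on with
    | C a => simp [fwd]
    | add p q hp hq => simp [hp, hq]
    | mul_X p q hp =>
      rw [map_mul, Derivation.leibniz, hp, Derivation.leibniz, map_add, smul_eq_mul, smul_eq_mul, smul_eq_mul,
        smul_eq_mul, map_mul, map_mul]
      congr 2
      show δ (fwd (MvPolynomial.X q)) = fwd (mkDerivation k up (MvPolynomial.X q))
      rw [mkDerivation_X, show fwd (MvPolynomial.X q) = lin (b q) from MvPolynomial.aeval_X _ _, hδ, hb]
      simp only [up]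
      split_ifs <;> simp [fwd]
  refine ⟨T.kerE.map fwd, Subalgebra.FG.map _ T.fg_kerE, fun f => ⟨?_, fun hf => ⟨bwd f, ?_, hfb f⟩⟩⟩
  · rintro ⟨z, hz, rfl⟩
    show δ (fwd z) = 0
    rw [hcomm, show T.e z = 0 from hz, map_zero]
  · show T.e (bwd f) = 0
    have h : δ (fwd (bwd f)) = fwd (T.e (bwd f)) := hcomm _
    rw [hfb, show δ f = 0 from hf] at h
    have := congrArg bwd h
    rw [hbf, map_zero] at this
    exact this.symm

end Groth.Agent.Weitz
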