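import Mathlib.RingTheory.MvPolynomial.WeightedHomogeneous
import Mathlib.Algebra.MvPolynomial.Derivation
import Mathlib.RingTheory.Derivation.Lie
import Mathlib.Algebra.MvPolynomial.PDeriv

/-!
# Derivations that shift a weight
-/

set_option autoImplicit false

universe u v w

open MvPolynomial

namespace Groth.Agent.Weitz

variable {k : Type u} [CommRing k] {ι : Type v} {M : Type w} [AddCommGroup M] (W : ι → M)

/-- A derivation sends each variable to an element of weight shifted by `c`. -/
def Shifts (D : Derivation k (MvPolynomial ι k) (MvPolynomial ι k)) (c : M) : Prop :=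
  ∀ i, IsWeightedHomogeneous W (D (X i)) (W i + c)

variable {W} {D : Derivation k (MvPolynomial ι k) (MvPolynomial ι k)} {c : M}

theorem Shifts.monomial (hD : Shifts W D c) (s : ι →₀ ℕ) (r : k) :
    IsWeightedHomogeneous W (D (monomial s r)) (Finsupp.weight W s + c) := by
  have hD' : D = mkDerivation k fun i => D (X i) := derivation_ext fun i => (mkDerivation_X k (fun i => D (X i)) i).symm
  rw [hD', mkDerivation_monomial]
  rw [MvPolynomial.smul_eq_C_mul]
  refine IsWeightedHomogeneous.C_mul ?_ r
  refine IsWeightedHomogeneous.sum _ _ _ fun i hi => ?_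
  show IsWeightedHomogeneous W (MvPolynomial.monomial (s - Finsupp.single i 1) (s i : k) * D (X i)) _
  have h1 : Finsupp.weight W (s - Finsupp.single i 1) + W i = Finsupp.weight W s := by
    have hle : Finsupp.single i 1 ≤ s := Finsupp.single_le_iff.2 (Nat.one_le_iff_ne_zero.2 (Finsupp.mem_support_iff.1 hi))
    conv_rhs => rw [← tsub_add_cancel_of_le hle, map_add, Finsupp.weight_single, one_smul]
  rw [← h1, add_assoc]
  exact (isWeightedHomogeneous_monomial W _ _ rfl).mul (hD i)

theorem Shifts.map (hD : Shifts W D c) {x : MvPolynomial ι k} {m : M} (hx : IsWeightedHomogeneous W x m) :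
    IsWeightedHomogeneous W (D x) (m + c) := by
  induction hx using IsWeightedHomogeneous.induction_on with
  | zero => rw [map_zero]; exact isWeightedHomogeneous_zero k W _
  | add p q _ _ hp hq => rw [map_add]; exact hp.add hq
  | monomial d r hd => exact hd ▸ hD.monomial d r

theorem Shifts.iterate (hD : Shifts W D c) {x : MvPolynomial ι k} {m : M} (hx : IsWeightedHomogeneous W x m) (n : ℕ) :
    IsWeightedHomogeneous W (D^[n] x) (m + n • c) := by
  induction n with
  | zero => simpa using hx
  | succ n ih =>
    rw [Function.iterate_succ_apply', succ_nsmul, ← add_assoc]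
    exact hD.map ih

/-- Taking components commutes with a shifting derivation. -/
theorem Shifts.component (hD : Shifts W D c) (x : MvPolynomial ι k) (m : M) :
    D (weightedHomogeneousComponent W m x) = weightedHomogeneousComponent W (m + c) (D x) := by
  classical
  induction x using MvPolynomial.induction_on' with
  | monomial s r =>
    have hs := isWeightedHomogeneous_monomial W s r rfl
    rw [weightedHomogeneousComponent_of_mem (m := m) (n := Finsupp.weight W s) hs,
      weightedHomogeneousComponent_of_mem (m := m + c) (n := Finsupp.weight W s + c) (hD.monomial s r)]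
    by_cases h : m = Finsupp.weight W s
    · simp [h]
    · simp [h]
  | add p q hp hq => simp only [map_add, hp, hq]

theorem component_mul_of_isHomogeneous {g : MvPolynomial ι k} {c : M} (hg : IsWeightedHomogeneous W g c)
    (a : MvPolynomial ι k) (m : M) :
    weightedHomogeneousComponent W (m + c) (a * g) = weightedHomogeneousComponent W m a * g := by
  classical
  induction a using MvPolynomial.induction_on' with
  | monomial s r =>
    have hs := isWeightedHomogeneous_monomial W s r rfl
    rw [weightedHomogeneousComponent_of_mem (m := m) (n := Finsupp.weight W s) hs,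
      weightedHomogeneousComponent_of_mem (m := m + c) (n := Finsupp.weight W s + c) (hs.mul hg)]
    by_cases h : m = Finsupp.weight W s
    · simp [h]
    · simp [h]
  | add p q hp hq => simp only [add_mul, map_add, hp, hq]

theorem mem_of_components {p : Submodule k (MvPolynomial ι k)} {x : MvPolynomial ι k}
    (h : ∀ m, weightedHomogeneousComponent W m x ∈ p) : x ∈ p := by
  rw [← sum_weightedHomogeneousComponent W x]
  exact finsum_induction (· ∈ p) (zero_mem p) (fun _ _ => add_mem) h

/-- The Euler derivation of an integer weight. -/
noncomputable def euler (W : ι → ℤ) : Derivation k (MvPolynomial ι k) (MvPolynomial ι k) :=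
  mkDerivation k fun i => (W i : k) • X i

theorem euler_apply {W : ι → ℤ} {x : MvPolynomial ι k} {m : ℤ} (hx : IsWeightedHomogeneous W x m) :
    euler W x = (m : k) • x := by
  induction hx using IsWeightedHomogeneous.induction_on with
  | zero => rw [map_zero, smul_zero]
  | add p q _ _ hp hq => rw [map_add, hp, hq, smul_add]
  | monomial d r hd =>
    rw [euler, mkDerivation_monomial, ← hd, MvPolynomial.smul_monomial, Finsupp.weight_apply, Finsupp.sum,
      Finsupp.sum, Finset.smul_sum, Int.cast_sum, Finset.sum_smul, map_sum]
    refine Finset.sum_congr rfl fun i hi => ?_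
    have hle : Finsupp.single i 1 ≤ d := Finsupp.single_le_iff.2 (Nat.one_le_iff_ne_zero.2 (Finsupp.mem_support_iff.1 hi))
    rw [smul_eq_mul, mul_smul_comm, monomial_mul_monomial_X_aux hle]
    simp [MvPolynomial.smul_monomial, mul_comm]
where
  monomial_mul_monomial_X_aux {d : ι →₀ ℕ} {i : ι} {a : k} (hle : Finsupp.single i 1 ≤ d) :
      MvPolynomial.monomial (d - Finsupp.single i 1) a * X i = MvPolynomial.monomial d a := by
    rw [X, monomial_mul, mul_one, tsub_add_cancel_of_le hle]

end Groth.Agent.Weitz
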