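import Groth.Agent.Weitz.Projector
import Mathlib.Algebra.MvPolynomial.Rename
import Mathlib.Data.Nat.Choose.Sum
import Mathlib.RingTheory.Adjoin.FG

/-!
# The kernel of the raising derivation is finitely generated (Weitzenböck)
-/

set_option autoImplicit false

universe u v

open MvPolynomial

noncomputable section

namespace Groth.Agent.Weitz

variable {k : Type u} [Field k] {ι : Type v}

namespace Sl2Data

variable (S : Sl2Data k ι)

/-- The variable of weight one. -/
abbrev uu : MvPolynomial (ι ⊕ Bool) k := X (Sum.inr true)

/-- The variable of weight minus one. -/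
abbrev vv : MvPolynomial (ι ⊕ Bool) k := X (Sum.inr false)

/-- The weights of the extended variables. -/
def wt' : ι ⊕ Bool → ℤ := Sum.elim S.wt fun b => if b then 1 else -1

/-- The extended raising derivation. -/
def e' : Derivation k (MvPolynomial (ι ⊕ Bool) k) (MvPolynomial (ι ⊕ Bool) k) :=
  mkDerivation k (Sum.elim (fun i => rename Sum.inl (S.e (X i))) fun b => if b then 0 else uu)

/-- The extended lowering derivation. -/
def f' : Derivation k (MvPolynomial (ι ⊕ Bool) k) (MvPolynomial (ι ⊕ Bool) k) :=
  mkDerivation k (Sum.elim (fun i => rename Sum.inl (S.f (X i))) fun b => if b then vv else 0)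

theorem isHom_rename {M : Type*} [AddCommMonoid M] {W : ι ⊕ Bool → M} {p : MvPolynomial ι k} {m : M}
    (hp : IsWeightedHomogeneous (W ∘ Sum.inl) p m) : IsWeightedHomogeneous W (rename Sum.inl p) m := by
  induction hp using IsWeightedHomogeneous.induction_on with
  | zero => rw [map_zero]; exact isWeightedHomogeneous_zero k W m
  | add p q _ _ hp hq => rw [map_add]; exact hp.add hq
  | monomial d r hd =>
    rw [rename_monomial]
    refine isWeightedHomogeneous_monomial W _ r ?_
    rw [← hd]
    simp only [Finsupp.weight_apply]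
    rw [Finsupp.sum_mapDomain_index_inj Sum.inl_injective]
    rfl

/-- The extended data: the tensor product with the standard representation. -/
def ext : Sl2Data k (ι ⊕ Bool) where
  wt := S.wt'
  e := S.e'
  f := S.f'
  e_wt := by
    rintro (i | b)
    · rw [e', mkDerivation_X]
      exact isHom_rename (S.e_wt i)
    · rw [e', mkDerivation_X]
      cases b
      · simpa [wt'] using isWeightedHomogeneous_X k S.wt' (Sum.inr true)
      · simpa [wt'] using isWeightedHomogeneous_zero k S.wt' (3 : ℤ)
  f_wt := by
    rintro (i | b)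
    · rw [f', mkDerivation_X]
      exact isHom_rename (S.f_wt i)
    · rw [f', mkDerivation_X]
      cases b
      · simpa [wt'] using isWeightedHomogeneous_zero k S.wt' (-3 : ℤ)
      · simpa [wt'] using isWeightedHomogeneous_X k S.wt' (Sum.inr false)
  e_deg := by
    rintro (i | b)
    · rw [e', mkDerivation_X]
      exact isHom_rename (W := fun _ : ι ⊕ Bool => (1 : ℤ)) (S.e_deg i)
    · rw [e', mkDerivation_X]
      cases b
      · simpa using isWeightedHomogeneous_X k (fun _ : ι ⊕ Bool => (1 : ℤ)) (Sum.inr true)
      · simpa using isWeightedHomogeneous_zero k (fun _ : ι ⊕ Bool => (1 : ℤ)) (1 : ℤ)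
  f_deg := by
    rintro (i | b)
    · rw [f', mkDerivation_X]
      exact isHom_rename (W := fun _ : ι ⊕ Bool => (1 : ℤ)) (S.f_deg i)
    · rw [f', mkDerivation_X]
      cases b
      · simpa using isWeightedHomogeneous_zero k (fun _ : ι ⊕ Bool => (1 : ℤ)) (1 : ℤ)
      · simpa using isWeightedHomogeneous_X k (fun _ : ι ⊕ Bool => (1 : ℤ)) (Sum.inr false)
  comm := by
    have he : ∀ p, S.e' (rename Sum.inl p) = rename Sum.inl (S.e p) := fun p => by
      induction p using MvPolynomial.induction_on with
      | C a => simp
      | add p q hp hq => simp [hp, hq]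
      | mul_X p i hp =>
          rw [map_mul, Derivation.leibniz, hp, rename_X, show S.e' (X (Sum.inl i)) = rename Sum.inl (S.e (X i)) from
            mkDerivation_X _ _ _, Derivation.leibniz]
          simp
    have hf : ∀ p, S.f' (rename Sum.inl p) = rename Sum.inl (S.f p) := fun p => by
      induction p using MvPolynomial.induction_on with
      | C a => simp
      | add p q hp hq => simp [hp, hq]
      | mul_X p i hp =>
          rw [map_mul, Derivation.leibniz, hp, rename_X, show S.f' (X (Sum.inl i)) = rename Sum.inl (S.f (X i)) from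
            mkDerivation_X _ _ _, Derivation.leibniz]
          simp
    rintro (i | b)
    · have h1 : S.f' (X (Sum.inl i)) = rename Sum.inl (S.f (X i)) := mkDerivation_X _ _ _
      have h2 : S.e' (X (Sum.inl i)) = rename Sum.inl (S.e (X i)) := mkDerivation_X _ _ _
      rw [h1, h2, he, hf, ← map_sub, S.comm, map_smul, rename_X]
      rfl
    · cases b <;> simp [e', f', wt']

/-- Restriction to `u = 0`, `v = 1`. -/
def phi : MvPolynomial (ι ⊕ Bool) k →ₐ[k] MvPolynomial ι k :=
  aeval (Sum.elim X fun b => if b then 0 else 1)

theorem phi_rename (p : MvPolynomial ι k) : phi (rename Sum.inl p) = p := by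
  rw [phi, aeval_rename]
  simp

theorem phi_e (p : MvPolynomial (ι ⊕ Bool) k) : phi (S.e' p) = S.e (phi p) := by
  induction p using MvPolynomial.induction_on with
  | C a => simp [phi]
  | add p q hp hq => simp [hp, hq]
  | mul_X p i hp =>
    rw [Derivation.leibniz, map_add, smul_eq_mul, smul_eq_mul, map_mul, map_mul, hp, map_mul, Derivation.leibniz,
      smul_eq_mul, smul_eq_mul]
    congr 2
    rcases i with i | b
    · rw [e', mkDerivation_X, Sum.elim_inl, phi_rename]
      simp [phi]
    · cases b <;> simp [e', phi]

theorem phi_f_iterate (l : ℕ) : ∀ (q : MvPolynomial (ι ⊕ Bool) k) (i : ℕ), l ≤ i →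
    phi (S.f'^[l] (q * uu ^ i)) = if l = i then (i.factorial : k) • phi q else 0 := by
  induction l with
  | zero =>
    intro q i _
    rcases Nat.eq_zero_or_pos i with rfl | hi
    · simp
    · rw [if_neg (by omega)]
      simp [phi, zero_pow hi.ne']
  | succ l ih =>
    intro q i hli
    obtain ⟨i, rfl⟩ : ∃ j, i = j + 1 := Nat.exists_eq_add_of_le' (by omega : 1 ≤ i)
    have hu : S.f' uu = vv := by simp [f']
    have hd : S.f' (q * uu ^ (i + 1)) = S.f' q * uu ^ (i + 1) + (((i + 1 : ℕ) : k) • (q * vv)) * uu ^ i := by
      rw [Derivation.leibniz, Derivation.leibniz_pow, hu, MvPolynomial.smul_eq_C_mul]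
      simp [MvPolynomial.smul_eq_C_mul]
      ring
    rw [Function.iterate_succ_apply, hd, iterate_map_add, map_add, ih _ _ (by omega), ih _ _ (by omega),
      if_neg (show ¬ l = i + 1 by omega), zero_add]
    by_cases h : l = i
    · subst h
      rw [if_pos rfl, if_pos rfl, map_smul, map_mul, show phi (k := k) (ι := ι) vv = 1 by simp [phi], mul_one,
        smul_smul, Nat.factorial_succ]
      push_cast
      ring_nf
    · rw [if_neg h, if_neg (by omega)]

theorem e_iterate_vv (x : MvPolynomial (ι ⊕ Bool) k) (hx : S.e' x = 0) (m : ℕ) (i : ℕ) :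
    S.e'^[i] (x * vv ^ m) = ((m.descFactorial i : k) • (x * vv ^ (m - i))) * uu ^ i := by
  induction i with
  | zero => simp
  | succ i ih =>
    rw [Function.iterate_succ_apply', ih, Derivation.leibniz, Derivation.leibniz_pow, Derivation.map_smul,
      Derivation.leibniz, Derivation.leibniz_pow, hx, show S.e' uu = 0 by simp [e'],
      show S.e' vv = uu by simp [e'], Nat.descFactorial_succ, Nat.sub_sub]
    simp [MvPolynomial.smul_eq_C_mul]
    ring

theorem sum_coef [CharZero k] (m : ℕ) :
    ∑ i ∈ Finset.range (m + 1), coef (k := k) i * ((i.factorial : k) * (m.descFactorial i : k)) = ((m : k) + 1)⁻¹ := by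
  have h0 := Int.alternating_sum_range_choose_of_ne (Nat.succ_ne_zero m)
  rw [Finset.sum_range_succ'] at h0
  have h1 : ∑ i ∈ Finset.range (m + 1), (-1 : k) ^ i * ((m + 1).choose (i + 1) : k) = 1 := by
    have h2 := congrArg (fun z : ℤ => (z : k)) h0
    push_cast at h2
    simp only [pow_succ, mul_neg, mul_one, neg_mul, Finset.sum_neg_distrib, pow_zero, Nat.choose_zero_right,
      Nat.cast_one] at h2
    linear_combination -h2
  rw [eq_inv_of_mul_eq_one_left (a := ∑ i ∈ Finset.range (m + 1), coef (k := k) i * ((i.factorial : k) * (m.descFactorial i : k)))]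
  rw [Finset.sum_mul]
  refine Eq.trans (Finset.sum_congr rfl fun i _ => ?_) h1
  have h3 : ((m + 1).choose (i + 1) : k) * ((i + 1).factorial : k) = ((m : k) + 1) * (m.descFactorial i : k) := by
    rw [mul_comm, ← Nat.cast_mul, ← Nat.descFactorial_eq_factorial_mul_choose, Nat.succ_descFactorial_succ]
    push_cast
    ring
  have h4 : (i.factorial : k) ≠ 0 := Nat.cast_ne_zero.2 i.factorial_ne_zero
  have h5 : ((i + 1).factorial : k) ≠ 0 := Nat.cast_ne_zero.2 (i + 1).factorial_ne_zero
  rw [coef]
  field_simp
  linear_combination -h3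

/-- The kernel of the raising derivation, as a subalgebra. -/
def kerE : Subalgebra k (MvPolynomial ι k) where
  carrier := {x | S.e x = 0}
  mul_mem' {a b} ha hb := by
    show S.e (a * b) = 0
    rw [Derivation.leibniz, show S.e a = 0 from ha, show S.e b = 0 from hb, smul_zero, smul_zero, add_zero]
  add_mem' {a b} ha hb := by
    show S.e (a + b) = 0
    rw [map_add, show S.e a = 0 from ha, show S.e b = 0 from hb, add_zero]
  algebraMap_mem' r := Derivation.map_algebraMap _ _

theorem map_inv [Fintype ι] [CharZero k] : S.ext.inv.map phi = S.kerE := by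
  classical
  refine le_antisymm ?_ fun x hx => ?_
  · rintro _ ⟨x, hx, rfl⟩
    show S.e (phi x) = 0
    rw [← phi_e, show S.e' x = 0 from hx.2, map_zero]
  · refine mem_of_components (W := fun _ : ι => (1 : ℤ)) (p := (S.ext.inv.map phi).toSubmodule) fun d => ?_
    refine mem_of_components (W := S.wt) (p := (S.ext.inv.map phi).toSubmodule) fun z => ?_
    set y := weightedHomogeneousComponent S.wt z (weightedHomogeneousComponent (fun _ : ι => (1 : ℤ)) d x)
    have hyw : S.HasW y z := weightedHomogeneousComponent_isWeightedHomogeneous _ _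
    have hyd : HasD y d := fun t ht => by
      simp only [y, coeff_weightedHomogeneousComponent] at ht
      split_ifs at ht with h1 h2
      · exact h2
      · exact absurd rfl ht
      · exact absurd rfl ht
    have hye : S.e y = 0 := by
      rw [S.e_wt.component, S.e_deg.component, show S.e x = 0 from hx, map_zero, map_zero]
    by_cases h : y = 0
    · rw [h]; exact zero_mem _
    obtain ⟨m, hm, -⟩ := S.f_pow_eq_zero hyw hyd h hye
    let T := rename (Sum.inl : ι → ι ⊕ Bool) y * vv ^ m
    have hT : S.ext.HasW T 0 := by
      have h1 : IsWeightedHomogeneous S.wt' (rename (Sum.inl : ι → ι ⊕ Bool) y) z := isHom_rename hyw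
      have h2 := (isWeightedHomogeneous_X k S.wt' (Sum.inr false)).pow m
      have h3 := h1.mul h2
      rwa [show z + m • S.wt' (Sum.inr false) = 0 by simp [wt', hm]] at h3
    have hex : S.e' (rename Sum.inl y) = 0 := by
      have : ∀ p, S.e' (rename Sum.inl p) = rename Sum.inl (S.e p) := fun p => by
        induction p using MvPolynomial.induction_on with
        | C a => simp
        | add p q hp hq => simp [hp, hq]
        | mul_X p i hp =>
          rw [map_mul, Derivation.leibniz, hp, rename_X, show S.e' (X (Sum.inl i)) = rename Sum.inl (S.e (X i)) from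
            mkDerivation_X _ _ _, Derivation.leibniz]
          simp
      rw [this, hye, map_zero]
    have hR : S.ext.proj m T ∈ S.ext.inv := by
      refine ⟨S.ext.proj_wt hT m, ?_⟩
      rw [S.ext.e_proj hT]
      show coef m • S.ext.f^[m] (S.e'^[m + 1] T) = 0
      rw [S.e_iterate_vv _ hex, Nat.descFactorial_of_lt (Nat.lt_succ_self m)]
      simp [iterate_map_zero]
    have hphi : phi (S.ext.proj m T) = ((m : k) + 1)⁻¹ • y := by
      rw [proj, map_sum, ← sum_coef m, Finset.sum_smul]
      refine Finset.sum_congr rfl fun i hi => ?_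
      show phi (coef i • S.f'^[i] (S.e'^[i] T)) = _
      rw [map_smul, S.e_iterate_vv _ hex, S.phi_f_iterate i _ _ le_rfl, if_pos rfl, map_smul, map_mul, phi_rename,
        map_pow, show phi (k := k) (ι := ι) vv = 1 by simp [phi], one_pow, mul_one, smul_smul, smul_smul]
      congr 1
      ring
    show y ∈ S.ext.inv.map phi
    have hmem : ((m : k) + 1)⁻¹ • y ∈ S.ext.inv.map phi := ⟨_, hR, hphi⟩
    have h9 := Subalgebra.smul_mem _ hmem ((m : k) + 1)
    rwa [smul_smul, mul_inv_cancel₀ (Nat.cast_add_one_ne_zero m), one_smul] at h9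

/-- Weitzenböck's theorem for a triple. -/
theorem fg_kerE [Fintype ι] [CharZero k] : S.kerE.FG := by
  rw [← S.map_inv]
  exact Subalgebra.FG.map _ S.ext.fg_inv

end Sl2Data

end Groth.Agent.Weitz
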