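import Groth.Agent.Weitz.Basic
import Mathlib.RingTheory.Polynomial.Basic
import Mathlib.Tactic

/-!
# The invariants of a linear `sl₂`-action on a polynomial ring are finitely generated

The projection onto invariants is the extremal projector `∑ cᵢ fⁱ eⁱ`.
-/

set_option autoImplicit false

universe u v

open MvPolynomial

noncomputable section

namespace Groth.Agent.Weitz

variable (k : Type u) [Field k] (ι : Type v)

/-- A linear `sl₂`-action on a polynomial ring by derivations, with a weight basis. -/
structure Sl2Data where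
  /-- the weights of the variables -/
  wt : ι → ℤ
  /-- the raising derivation -/
  e : Derivation k (MvPolynomial ι k) (MvPolynomial ι k)
  /-- the lowering derivation -/
  f : Derivation k (MvPolynomial ι k) (MvPolynomial ι k)
  e_wt : Shifts wt e 2
  f_wt : Shifts wt f (-2)
  e_deg : Shifts (fun _ : ι => (1 : ℤ)) e 0
  f_deg : Shifts (fun _ : ι => (1 : ℤ)) f 0
  comm : ∀ i, e (f (X i)) - f (e (X i)) = (wt i : k) • X i

variable {k ι}

namespace Sl2Data

variable (S : Sl2Data k ι)

/-- Weighted homogeneous of weight `m`. -/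
abbrev HasW (x : MvPolynomial ι k) (m : ℤ) : Prop := IsWeightedHomogeneous S.wt x m

/-- Homogeneous of degree `d`. -/
abbrev HasD (x : MvPolynomial ι k) (d : ℤ) : Prop := IsWeightedHomogeneous (fun _ : ι => (1 : ℤ)) x d

theorem e_f {x : MvPolynomial ι k} {m : ℤ} (hx : S.HasW x m) : S.e (S.f x) = S.f (S.e x) + (m : k) • x := by
  have h : ⁅S.e, S.f⁆ = euler (k := k) S.wt := derivation_ext fun i => by
    rw [Derivation.commutator_apply, S.comm, euler, mkDerivation_X]
  have := Derivation.congr_fun h x
  rw [Derivation.commutator_apply, euler_apply hx, sub_eq_iff_eq_add] at this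
  rw [this, add_comm]

theorem e_f_iterate {y : MvPolynomial ι k} {m : ℤ} (hy : S.HasW y m) (i : ℕ) :
    S.e (S.f^[i + 1] y) = S.f^[i + 1] (S.e y) + (((i : k) + 1) * ((m : k) - i)) • S.f^[i] y := by
  induction i with
  | zero => simpa using S.e_f hy
  | succ i ih =>
    rw [Function.iterate_succ_apply' _ (i + 1) y, S.e_f (S.f_wt.iterate hy (i + 1)), ih, map_add, Derivation.map_smul,
      ← Function.iterate_succ_apply' (S.f : _ → _), ← Function.iterate_succ_apply' (S.f : _ → _), add_assoc,
      ← add_smul]
    congr 2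
    push_cast
    simp
    ring

/-- The coefficients of the extremal projector. -/
def coef (i : ℕ) : k := (-1) ^ i * ((i.factorial : k) * ((i + 1).factorial : k))⁻¹

/-- The extremal projector. -/
def proj (N : ℕ) (x : MvPolynomial ι k) : MvPolynomial ι k :=
  ∑ i ∈ Finset.range (N + 1), coef (k := k) i • S.f^[i] (S.e^[i] x)

theorem coef_succ [CharZero k] (i : ℕ) :
    coef (k := k) (i + 1) * (((i : k) + 1) * ((i : k) + 2)) + coef i = 0 := by
  have h1 : (i.factorial : k) ≠ 0 := Nat.cast_ne_zero.2 i.factorial_ne_zero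
  have h2 : (i : k) + 1 ≠ 0 := Nat.cast_add_one_ne_zero i
  have h3 : (i : k) + 2 ≠ 0 := by exact_mod_cast (show i + 2 ≠ 0 by omega)
  have h4 : (i : k) + 1 + 1 ≠ 0 := by exact_mod_cast (show i + 1 + 1 ≠ 0 by omega)
  simp only [coef, Nat.factorial_succ]
  push_cast
  field_simp
  ring

theorem e_proj [CharZero k] {x : MvPolynomial ι k} (hx : S.HasW x 0) (N : ℕ) :
    S.e (S.proj N x) = coef (k := k) N • S.f^[N] (S.e^[N + 1] x) := by
  induction N with
  | zero => simp [proj, Function.iterate_one]
  | succ N ih =>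
    have hy := S.e_wt.iterate hx (N + 1)
    rw [proj, Finset.sum_range_succ, ← proj, map_add, ih, Derivation.map_smul, S.e_f_iterate hy N, smul_add,
      ← Function.iterate_succ_apply' (S.e : _ → _), smul_smul, add_left_comm, ← add_smul]
    rw [show (((0 : ℤ) + (N + 1) • (2 : ℤ) : ℤ) : k) - (N : k) = (N : k) + 2 by push_cast; simp; ring,
      add_comm (coef N), coef_succ, zero_smul, add_zero]

theorem proj_wt {x : MvPolynomial ι k} (hx : S.HasW x 0) (N : ℕ) : S.HasW (S.proj N x) 0 :=
  IsWeightedHomogeneous.sum _ _ _ fun i _ => by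
    have := S.f_wt.iterate (S.e_wt.iterate hx i) i
    rw [show (0 : ℤ) + i • (2 : ℤ) + i • (-2 : ℤ) = 0 by simp] at this
    rw [MvPolynomial.smul_eq_C_mul]
    exact this.C_mul _

theorem proj_deg {x : MvPolynomial ι k} {d : ℤ} (hx : HasD x d) (N : ℕ) : HasD (S.proj N x) d :=
  IsWeightedHomogeneous.sum _ _ _ fun i _ => by
    have := S.f_deg.iterate (S.e_deg.iterate hx i) i
    rw [show d + i • (0 : ℤ) + i • (0 : ℤ) = d by simp] at this
    rw [MvPolynomial.smul_eq_C_mul]
    exact this.C_mul _

theorem proj_mul {s : MvPolynomial ι k} (hes : S.e s = 0) (hfs : S.f s = 0) (N : ℕ) (x : MvPolynomial ι k) :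
    S.proj N (x * s) = S.proj N x * s := by
  have he : ∀ i y, S.e^[i] (y * s) = S.e^[i] y * s := fun i y => by
    induction i with
    | zero => rfl
    | succ i ih => rw [Function.iterate_succ_apply', ih, Function.iterate_succ_apply', Derivation.leibniz, hes]; simp [mul_comm]
  have hf : ∀ i y, S.f^[i] (y * s) = S.f^[i] y * s := fun i y => by
    induction i with
    | zero => rfl
    | succ i ih => rw [Function.iterate_succ_apply', ih, Function.iterate_succ_apply', Derivation.leibniz, hfs]; simp [mul_comm]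
  simp only [proj, he, hf, Finset.sum_mul, smul_mul_assoc]

theorem proj_add (N : ℕ) (x y : MvPolynomial ι k) : S.proj N (x + y) = S.proj N x + S.proj N y := by
  simp only [proj, iterate_map_add, smul_add, Finset.sum_add_distrib]

theorem proj_zero (N : ℕ) : S.proj N (0 : MvPolynomial ι k) = 0 := by
  simp [proj, iterate_map_zero]

theorem proj_eq_self {x : MvPolynomial ι k} (hx : S.e x = 0) (N : ℕ) : S.proj N x = x := by
  rw [proj, Finset.sum_range_succ', Finset.sum_eq_zero fun i _ => by
    rw [Function.iterate_succ_apply (S.e : _ → _), hx, iterate_map_zero, iterate_map_zero, smul_zero]]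
  simp [coef]

variable [Fintype ι]

/-- A bound for the weights of the variables. -/
def bnd : ℕ := Finset.univ.sup fun i => (S.wt i).natAbs

theorem abs_le {x : MvPolynomial ι k} {m d : ℤ} (hm : S.HasW x m) (hd : HasD x d) (hx : x ≠ 0) :
    |m| ≤ d * S.bnd := by
  obtain ⟨s, hs⟩ := MvPolynomial.ne_zero_iff.1 hx
  rw [← hm hs, ← hd hs, Finsupp.weight_apply, Finsupp.weight_apply, Finsupp.sum, Finsupp.sum, Finset.sum_mul]
  refine (Finset.abs_sum_le_sum_abs _ _).trans (Finset.sum_le_sum fun i _ => ?_)
  rw [nsmul_eq_mul, nsmul_eq_mul, abs_mul, mul_one, Nat.abs_cast]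
  refine mul_le_mul_of_nonneg_left ?_ (by positivity)
  rw [Int.abs_eq_natAbs]
  exact_mod_cast Finset.le_sup (f := fun i => (S.wt i).natAbs) (Finset.mem_univ i)

theorem exists_e_pow_eq_zero {x : MvPolynomial ι k} {m d : ℤ} (hm : S.HasW x m) (hd : HasD x d) :
    ∃ N : ℕ, S.e^[N] x = 0 := by
  refine ⟨((d * S.bnd).natAbs + m.natAbs + 1), by_contra fun h => ?_⟩
  have := S.abs_le (S.e_wt.iterate hm _) (S.e_deg.iterate hd _) h
  simp only [nsmul_eq_mul, mul_zero, add_zero] at this
  have h2 := (le_abs_self _).trans this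
  push_cast at h2
  linarith [le_abs_self (d * (S.bnd : ℤ)), neg_abs_le m, le_abs_self m, abs_nonneg m, abs_nonneg (d * (S.bnd : ℤ))]

theorem exists_f_pow_eq_zero {x : MvPolynomial ι k} {m d : ℤ} (hm : S.HasW x m) (hd : HasD x d) :
    ∃ N : ℕ, S.f^[N] x = 0 := by
  refine ⟨((d * S.bnd).natAbs + m.natAbs + 1), by_contra fun h => ?_⟩
  have := S.abs_le (S.f_wt.iterate hm _) (S.f_deg.iterate hd _) h
  simp only [nsmul_eq_mul, mul_zero, add_zero] at this
  have h2 := (neg_le_abs _).trans this
  push_cast at h2
  linarith [le_abs_self (d * (S.bnd : ℤ)), neg_abs_le m, le_abs_self m, abs_nonneg m, abs_nonneg (d * (S.bnd : ℤ))]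

/-- A homogeneous vector killed by `e` has weight `N - 1` where `N` is its `f`-order. -/
theorem f_pow_eq_zero [CharZero k] {x : MvPolynomial ι k} {m d : ℤ} (hm : S.HasW x m) (hd : HasD x d) (hx : x ≠ 0)
    (he : S.e x = 0) : ∃ n : ℕ, m = n ∧ S.f^[n + 1] x = 0 := by
  classical
  have hN := S.exists_f_pow_eq_zero hm hd
  obtain ⟨N, hN0⟩ : ∃ N, Nat.find hN = N + 1 := Nat.exists_eq_add_of_le' (Nat.pos_of_ne_zero fun h => by
    have := Nat.find_spec hN
    rw [h] at this
    exact hx this)
  have h1 : S.f^[N + 1] x = 0 := hN0 ▸ Nat.find_spec hN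
  have h2 : S.f^[N] x ≠ 0 := Nat.find_min hN (by omega)
  have := S.e_f_iterate hm N
  rw [h1, map_zero, he, iterate_map_zero, zero_add, eq_comm, smul_eq_zero] at this
  rcases this with h | h
  · refine ⟨N, ?_, h1⟩
    rcases mul_eq_zero.1 h with h | h
    · exact absurd h (Nat.cast_add_one_ne_zero N)
    · exact_mod_cast sub_eq_zero.1 h
  · exact absurd h h2

/-- The invariants. -/
def inv : Subalgebra k (MvPolynomial ι k) where
  carrier := {x | S.HasW x 0 ∧ S.e x = 0}
  mul_mem' ha hb := ⟨by simpa using ha.1.mul hb.1, by rw [Derivation.leibniz, ha.2, hb.2, smul_zero, smul_zero, add_zero]⟩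
  add_mem' ha hb := ⟨ha.1.add hb.1, by rw [map_add, ha.2, hb.2, add_zero]⟩
  algebraMap_mem' r := ⟨isWeightedHomogeneous_C S.wt r, Derivation.map_algebraMap _ _⟩

theorem component_deg_mem {x : MvPolynomial ι k} (hx : x ∈ S.inv) (d : ℤ) :
    weightedHomogeneousComponent (fun _ : ι => (1 : ℤ)) d x ∈ S.inv := by
  classical
  refine ⟨?_, ?_⟩
  · intro s hs
    rw [coeff_weightedHomogeneousComponent] at hs
    split_ifs at hs with h
    · exact hx.1 hs
    · exact absurd rfl hs
  · rw [S.e_deg.component, hx.2, map_zero]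

theorem f_eq_zero [CharZero k] {x : MvPolynomial ι k} (hx : x ∈ S.inv) {d : ℤ} (hd : HasD x d) : S.f x = 0 := by
  by_cases h : x = 0
  · rw [h, map_zero]
  obtain ⟨n, hn, hf⟩ := S.f_pow_eq_zero hx.1 hd h hx.2
  obtain rfl : n = 0 := by exact_mod_cast hn.symm
  exact hf

/-- Hilbert's finiteness theorem for the invariants. -/
theorem fg_inv [CharZero k] : S.inv.FG := by
  classical
  let T : Set (MvPolynomial ι k) := {s | s ∈ S.inv ∧ ∃ d : ℤ, 0 < d ∧ HasD s d}
  obtain ⟨G, hGT, hG⟩ := Submodule.fg_span_iff_fg_span_finset_subset T |>.1 (IsNoetherian.noetherian (Submodule.span (MvPolynomial ι k) T))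
  refine ⟨G, le_antisymm (Algebra.adjoin_le fun g hg => (hGT hg).1) ?_⟩
  have key : ∀ n : ℕ, ∀ s ∈ S.inv, HasD s (n : ℤ) → s ∈ Algebra.adjoin k (G : Set (MvPolynomial ι k)) := by
    intro n
    induction n using Nat.strong_induction_on with
    | _ n IH =>
    intro s hs hd
    rcases Nat.eq_zero_or_pos n with rfl | hn
    · have : s = C (coeff 0 s) := by
        ext t
        rw [coeff_C]
        split_ifs with h
        · rw [h]
        · by_contra h'
          refine h (Finsupp.ext fun i => ?_).symm
          have := hd h'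
          rw [Finsupp.weight_apply, Finsupp.sum] at this
          simp only [nsmul_eq_mul, mul_one, Nat.cast_zero] at this
          by_contra hi
          exact hi (by
            have := (Finset.sum_eq_zero_iff_of_nonneg (fun j _ => by positivity)).1 this i (Finsupp.mem_support_iff.2 hi)
            exact_mod_cast this)
      rw [this]
      exact Subalgebra.algebraMap_mem _ _
    have hsT : s ∈ Submodule.span (MvPolynomial ι k) (G : Set (MvPolynomial ι k)) := by
      rw [← hG]
      exact Submodule.subset_span ⟨hs, n, by exact_mod_cast hn, hd⟩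
    obtain ⟨c, hc⟩ := Submodule.mem_span_finset'.1 hsT
    choose hGi dg hdg hdeg using fun g : G => hGT g.2
    let a : G → MvPolynomial ι k := fun g =>
      weightedHomogeneousComponent S.wt 0 (weightedHomogeneousComponent (fun _ : ι => (1 : ℤ)) (n - dg g) (c g))
    have haw : ∀ g, S.HasW (a g) 0 := fun g => weightedHomogeneousComponent_isWeightedHomogeneous _ _
    have had : ∀ g, HasD (a g) (n - dg g) := fun g t ht => by
      simp only [a, coeff_weightedHomogeneousComponent] at ht
      split_ifs at ht with h1 h2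
      · exact h2
      · exact absurd rfl ht
      · exact absurd rfl ht
    choose N hN using fun g => S.exists_e_pow_eq_zero (haw g) (had g)
    let M := ∑ g, N g
    have hM : ∀ g, S.e^[M + 1] (a g) = 0 := fun g => by
      have hle : N g ≤ M + 1 := (Finset.single_le_sum (fun _ _ => Nat.zero_le _) (Finset.mem_univ g)).trans (Nat.le_succ _)
      rw [← Nat.sub_add_cancel hle, Function.iterate_add_apply, hN, iterate_map_zero]
    have hsum : s = ∑ g, a g * (g : MvPolynomial ι k) := by
      have h1 := congrArg (fun z => weightedHomogeneousComponent S.wt 0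
        (weightedHomogeneousComponent (fun _ : ι => (1 : ℤ)) (n : ℤ) z)) hc
      simp only [map_sum, smul_eq_mul] at h1
      rw [hd.weightedHomogeneousComponent_same, hs.1.weightedHomogeneousComponent_same] at h1
      rw [← h1]
      refine Finset.sum_congr rfl fun g _ => ?_
      have e1 := component_mul_of_isHomogeneous (hdeg g) (c g) ((n : ℤ) - dg g)
      rw [sub_add_cancel] at e1
      rw [e1]
      have e2 := component_mul_of_isHomogeneous (hGi g).1
        (weightedHomogeneousComponent (fun _ : ι => (1 : ℤ)) ((n : ℤ) - dg g) (c g)) 0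
      rw [add_zero] at e2
      exact e2
    have hproj : ∀ (F : Finset G), S.proj M (∑ g ∈ F, a g * (g : MvPolynomial ι k)) = ∑ g ∈ F, S.proj M (a g) * g := by
      intro F
      induction F using Finset.induction_on with
      | empty => simp [S.proj_zero]
      | insert g F hgF ih =>
        rw [Finset.sum_insert hgF, Finset.sum_insert hgF, S.proj_add, ih,
          S.proj_mul (hGi g).2 (S.f_eq_zero (hGi g) (hdeg g))]
    rw [← S.proj_eq_self hs.2 M, hsum, hproj]
    refine Subalgebra.sum_mem _ fun g _ => Subalgebra.mul_mem _ ?_ (Algebra.subset_adjoin g.2)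
    by_cases hneg : (n : ℤ) - dg g < 0
    · have : a g = 0 := by
        by_contra h
        obtain ⟨t, ht⟩ := MvPolynomial.ne_zero_iff.1 h
        have h0 := had g ht
        rw [Finsupp.weight_apply, Finsupp.sum] at h0
        have : (0 : ℤ) ≤ ∑ i ∈ t.support, t i • (1 : ℤ) := Finset.sum_nonneg fun i _ => by simp
        omega
      rw [this, S.proj_zero]
      exact Subalgebra.zero_mem _
    · obtain ⟨j, hj⟩ := Int.eq_ofNat_of_zero_le (not_lt.1 hneg)
      refine IH j (by have := hdg g; omega) _ ⟨S.proj_wt (haw g) M, ?_⟩ (hj ▸ S.proj_deg (had g) M)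
      rw [S.e_proj (haw g), hM, iterate_map_zero, smul_zero]
  intro s hs
  show s ∈ (Algebra.adjoin k (G : Set (MvPolynomial ι k))).toSubmodule
  refine mem_of_components (W := fun _ : ι => (1 : ℤ)) (p := (Algebra.adjoin k (G : Set (MvPolynomial ι k))).toSubmodule)
    (fun d => ?_)
  by_cases h : d < 0
  · rw [weightedHomogeneousComponent_eq_zero' d s fun t _ => ?_]
    · exact zero_mem _
    rw [Finsupp.weight_apply, Finsupp.sum]
    have : (0 : ℤ) ≤ ∑ i ∈ t.support, t i • (1 : ℤ) := Finset.sum_nonneg fun i _ => by simp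
    omega
  · obtain ⟨j, rfl⟩ := Int.eq_ofNat_of_zero_le (not_lt.1 h)
    exact key j _ (S.component_deg_mem hs _) (weightedHomogeneousComponent_isWeightedHomogeneous _ _)

end Sl2Data

end Groth.Agent.Weitz
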